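import Groth.Agent.Lib.KindDesc.Smooth
import Groth.Agent.Lib.Conormal92.SplitGen
import Mathlib.RingTheory.Nakayama

/-!
# Quotients of regular sequences by part of the sequence
-/

set_option autoImplicit false
set_option linter.style.haveILetI false
universe u

namespace Groth.Agent.H2.SplitPerm

open Groth.Agent.Lib Groth.Agent.Lib.KindDesc Groth.Agent.Lib.Wiebe.Link MvPolynomial
open Groth.Agent.Lib.Synt92 CubeComp

theorem degree_eq {σ A : Type*} [CommRing A] {Q : MvPolynomial σ A} {s : ℕ} (hQ : Q.IsHomogeneous s)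
    {d : σ →₀ ℕ} (hd : Q.coeff d ≠ 0) : d.degree = s := by
  rw [Finsupp.degree_eq_weight_one]
  exact hQ hd

/-- A property of sequences passing to quotients by part of the sequence. -/
def Quot (Φ : Pred.{u}) : Prop :=
  ∀ {A B : Type u} [CommRing A] [CommRing B] (φ : A →+* B), Function.Surjective φ →
    ∀ {m e : ℕ} (f : Fin m → A) (ι : Fin e → Fin m), Function.Injective ι →
      (∀ l, l ∉ Set.range ι → φ (f l) = 0) →
      RingHom.ker φ ≤ Ideal.span (f '' (Set.range ι)ᶜ) →
      Φ A m f → Φ B e (φ ∘ f ∘ ι)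

theorem quot_h1 : Quot H1.{u} := by
  intro A B _ _ φ hφ m e f ι hι hz hker hf
  classical
  refine (Groth.Agent.H26.H1Quasi.isH1Regular_iff _).mpr fun c hc => ?_
  choose C hC using fun i => hφ (c i)
  have hmem : ∑ i, C i * f (ι i) ∈ Ideal.span (f '' (Set.range ι)ᶜ) := hker (by
    rw [RingHom.mem_ker, map_sum, ← hc]
    exact Finset.sum_congr rfl fun i _ => by rw [map_mul, hC]; rfl)
  obtain ⟨D, hDS, hD⟩ : ∃ D : Fin m → A, (∀ i, D (ι i) = 0) ∧
      ∑ l, D l * f l = ∑ i, C i * f (ι i) := by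
    generalize (∑ i, C i * f (ι i)) = y at hmem
    induction hmem using Submodule.span_induction with
    | mem x hx =>
      obtain ⟨l, hl, rfl⟩ := hx
      refine ⟨Pi.single l 1, fun i => Pi.single_eq_of_ne (fun h => hl ⟨i, h⟩) _, ?_⟩
      rw [Finset.sum_eq_single l (fun k _ hk => by rw [Pi.single_eq_of_ne hk, zero_mul])
        (fun h => absurd (Finset.mem_univ l) h), Pi.single_eq_same, one_mul]
    | zero => exact ⟨0, fun _ => rfl, by simp⟩
    | add x y _ _ hx hy =>
      obtain ⟨D, hD, rfl⟩ := hx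
      obtain ⟨D', hD', rfl⟩ := hy
      exact ⟨D + D', fun i => by simp [hD i, hD' i], by simp [add_mul, Finset.sum_add_distrib]⟩
    | smul a x _ hx =>
      obtain ⟨D, hD, rfl⟩ := hx
      exact ⟨a • D, fun i => by simp [hD i], by simp [Finset.mul_sum, mul_assoc]⟩
  let a : Fin m → A := (∑ i, Pi.single (ι i) (C i)) - D
  have ha : ∀ i, a (ι i) = C i := fun i => by
    simp only [a, Pi.sub_apply, Finset.sum_apply, hDS, sub_zero]
    rw [Finset.sum_eq_single i (fun k _ hk => Pi.single_eq_of_ne (fun h => hk (hι h).symm) _)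
      (fun h => absurd (Finset.mem_univ i) h), Pi.single_eq_same]
  obtain ⟨s, hs⟩ := (Groth.Agent.H26.H1Quasi.isH1Regular_iff f).mp hf a (by
    simp only [a, Pi.sub_apply, sub_mul, Finset.sum_sub_distrib, hD, Finset.sum_apply, Finset.sum_mul]
    rw [Finset.sum_comm, sub_eq_zero]
    refine Finset.sum_congr rfl fun i _ => ?_
    rw [Finset.sum_eq_single (ι i) (fun k _ hk => by rw [Pi.single_eq_of_ne hk, zero_mul])
      (fun h => absurd (Finset.mem_univ _) h), Pi.single_eq_same])
  refine ⟨fun i j => φ (s (ι i) (ι j)), fun i => ?_⟩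
  have := congrArg φ (hs (ι i))
  rw [ha, hC, map_sum] at this
  rw [this]
  rw [← Finset.sum_subset (Finset.subset_univ (Finset.univ.image ι))
    (fun l _ hl => by rw [smul_eq_mul, map_mul, hz l (by simpa using hl), zero_mul]),
    Finset.sum_image fun x _ y _ h => hι h]
  exact Finset.sum_congr rfl fun j _ => by simp [smul_eq_mul]

theorem quot_quasi : Quot Quasi.{u} := by
  intro A B _ _ φ hφ m e f ι hι hz hker hf
  classical
  refine quasi_of_eval fun k P hP he d => ?_
  rcases Nat.eq_zero_or_pos k with rfl | hk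
  · have hdeg := MvPolynomial.totalDegree_eq_zero_iff_eq_C.mp (Nat.le_zero.mp hP.totalDegree_le)
    rw [hdeg, eval_C] at he
    rw [hdeg, he, map_zero, coeff_zero]
    exact zero_mem _
  obtain ⟨P', hP'⟩ := MvPolynomial.map_surjective φ hφ P
  let P₀ := homogeneousComponent k P'
  have hP₀ : P₀.IsHomogeneous k := homogeneousComponent_isHomogeneous k _
  have hmap : ∀ d, φ (P₀.coeff d) = P.coeff d := fun d => by
    simp only [P₀, coeff_homogeneousComponent]
    split_ifs with hd
    · rw [← hP', coeff_map]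
    · rw [map_zero, hP.coeff_eq_zero hd]
  have hPm : MvPolynomial.map φ P₀ = P := MvPolynomial.ext _ _ fun d => by rw [coeff_map, hmap]
  let P₁ := rename ι P₀
  have hy : eval f P₁ ∈ Ideal.span (f '' (Set.range ι)ᶜ) := hker (by
    rw [RingHom.mem_ker, eval_rename, ← he, ← hPm, eval_map]
    exact (eval₂_comp_left φ (RingHom.id A) (f ∘ ι) P₀).trans (by rw [RingHom.comp_id]))
  have hyK : eval f P₁ ∈ Ideal.span (Set.range f) ^ k := by
    have h1 : P₁.IsHomogeneous k := hP₀.rename_isHomogeneous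
    rw [P₁.as_sum, map_sum]
    refine Submodule.sum_mem _ fun d hd => ?_
    rw [eval_monomial]
    refine Ideal.mul_mem_left _ _ ?_
    rw [← degree_eq h1 (mem_support_iff.mp hd), Finsupp.degree_apply, Finsupp.prod,
      ← Finset.prod_pow_eq_pow_sum]
    exact Ideal.prod_mem_prod fun l _ =>
      Ideal.pow_mem_pow (Ideal.subset_span (Set.mem_range_self l)) _
  have step : ∀ s, 1 ≤ s → s ≤ k → ∃ Q : MvPolynomial (Fin m) A, Q.IsHomogeneous s ∧
      Q ∈ Ideal.span (X '' (Set.range ι)ᶜ) ∧ eval f Q = eval f P₁ := by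
    intro s hs
    induction s, hs using Nat.le_induction with
    | base =>
      intro _
      generalize eval f P₁ = y at hy
      induction hy using Submodule.span_induction with
      | mem x hx =>
        obtain ⟨l, hl, rfl⟩ := hx
        exact ⟨X l, isHomogeneous_X A l, Ideal.subset_span ⟨l, hl, rfl⟩, eval_X _⟩
      | zero => exact ⟨0, isHomogeneous_zero _ _ _, zero_mem _, map_zero _⟩
      | add x y _ _ hx hy =>
        obtain ⟨Q, h1, h2, rfl⟩ := hx
        obtain ⟨Q', h1', h2', rfl⟩ := hy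
        exact ⟨Q + Q', h1.add h1', add_mem h2 h2', map_add _ _ _⟩
      | smul a x _ hx =>
        obtain ⟨Q, h1, h2, rfl⟩ := hx
        exact ⟨C a * Q, h1.C_mul a, Ideal.mul_mem_left _ _ h2, by simp⟩
    | succ s hs ih =>
      intro hsk
      obtain ⟨Q, h1, h2, h3⟩ := ih (by omega)
      have hc : ∀ d, ∃ u : Fin m → A, ∑ l, u l * f l = Q.coeff d := fun d =>
        Ideal.mem_span_range_iff_exists_fun.1 (hf s Q h1 (by
          rw [h3]; exact Ideal.pow_le_pow_right hsk hyK) d)
      choose u hu using hc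
      refine ⟨∑ d ∈ Q.support, monomial d 1 * ∑ l, C (u d l) * X l, ?_, ?_, ?_⟩
      · refine IsHomogeneous.sum _ _ _ fun d hd => ?_
        refine IsHomogeneous.mul (isHomogeneous_monomial 1
          (degree_eq h1 (mem_support_iff.mp hd))) ?_
        exact IsHomogeneous.sum _ _ _ fun l _ => (isHomogeneous_X A l).C_mul _
      · refine Submodule.sum_mem _ fun d hd => Ideal.mul_mem_right _ _ ?_
        obtain ⟨l, hl, hdl⟩ := mem_ideal_span_X_image.1 h2 d hd
        refine mem_ideal_span_X_image.2 fun d' hd' => ⟨l, hl, ?_⟩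
        rw [show d' = d from Finset.mem_singleton.mp (support_monomial_subset hd')]
        exact hdl
      · rw [← h3]
        conv_rhs => rw [Q.as_sum]
        rw [map_sum, map_sum]
        refine Finset.sum_congr rfl fun d _ => ?_
        rw [map_mul, map_sum, eval_monomial, eval_monomial, one_mul, ← hu d, mul_comm]
        simp only [map_mul, eval_C, eval_X]
  obtain ⟨Q, h1, h2, h3⟩ := step k hk le_rfl
  have hK := quasi_eval hf (hP₀.rename_isHomogeneous.sub h1) (by rw [map_sub, h3, sub_self])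
    (d.mapDomain ι)
  have hQ0 : Q.coeff (d.mapDomain ι) = 0 := by
    by_contra hne
    obtain ⟨l, hl, hdl⟩ := mem_ideal_span_X_image.1 h2 _ (mem_support_iff.mpr hne)
    exact hdl (Finsupp.mapDomain_of_notMem_range _ _ hl)
  rw [coeff_sub, hQ0, sub_zero, coeff_rename_mapDomain ι hι] at hK
  rw [← hmap]
  have := Ideal.mem_map_of_mem φ hK
  rw [Ideal.map_span, ← Set.range_comp] at this
  refine Ideal.span_le.2 ?_ this
  rintro _ ⟨l, rfl⟩
  by_cases hl : l ∈ Set.range ι
  · obtain ⟨i, rfl⟩ := hl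
    exact Ideal.subset_span ⟨i, rfl⟩
  · simp [hz l hl]

theorem exists_index {Q : Type u} [CommRing Q] {n m : ℕ} (g : Fin m → Q) (f : Fin n → Q) :
    ∃ ι : Fin m → Fin (n + m), ι.Injective ∧ (∀ j, app g f (ι j) = g j) ∧
      (∀ k, k ∉ Set.range ι → app g f k ∈ Set.range f) ∧
      Set.range f ⊆ app g f '' (Set.range ι)ᶜ := by
  have key : ∀ k : Fin (n + m), app g f k =
      (List.ofFn g ++ List.ofFn f)[(k : ℕ)]'(by simp; omega) := fun k => by
    simp only [← ofFn_app, List.getElem_ofFn]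
  refine ⟨fun j => ⟨j, by omega⟩, fun j k h => Fin.ext (congrArg Fin.val h :), fun j => ?_, fun k hk => ?_, ?_⟩
  · rw [key, List.getElem_append_left (by simp)]
    simp
  · have hk' : ¬ (k : ℕ) < m := fun h => hk ⟨⟨k, h⟩, rfl⟩
    refine ⟨⟨k - m, by omega⟩, ?_⟩
    rw [key, List.getElem_append_right (by simpa using hk')]
    simp
  · rintro _ ⟨j, rfl⟩
    refine ⟨⟨m + j, by omega⟩, ?_, ?_⟩
    · rintro ⟨i, hi⟩
      have := congrArg Fin.val hi
      simp at this
      omega
    · rw [key, List.getElem_append_right (by simp)]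
      simp

variable {Φ : Pred.{u}}

/-- The rank of the bigger ideal in the quotient by the smaller one. -/
theorem genLoc_map (hP : Good Φ) (hquot : Quot Φ) {A B : Type u} [CommRing A] [CommRing B]
    (φ : A →+* B) (hφ : Function.Surjective φ) {r : ℕ} {K : Ideal A} (hfg : (RingHom.ker φ).FG)
    (hIK : RingHom.ker φ ≤ K) (Q : Ideal B) [Q.IsPrime]
    (hKP : K ≤ Q.comap φ) (hK : KindDesc.Loc.GenLoc Φ r K (Q.comap φ))
    (hs : ∀ x, x ∈ RingHom.ker φ → x ∈ Q.comap φ * K → x ∈ Q.comap φ * RingHom.ker φ) :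
    ∃ e, KindDesc.Loc.GenLoc Φ e (K.map φ) Q := by
  classical
  set P := Q.comap φ with hPdef
  haveI : P.IsPrime := Ideal.IsPrime.comap _
  set I := RingHom.ker φ with hIdef
  set R := Localization.AtPrime P
  set ρ := algebraMap A R with hρ
  obtain ⟨G, hG⟩ := hfg
  let cands := G.powerset.filter fun s : Finset A => I.map ρ ≤ Ideal.span (ρ '' (s : Set A))
  obtain ⟨s, hsc, hmin⟩ := cands.exists_min_image Finset.card ⟨G, by
    simp only [cands, Finset.mem_filter, Finset.mem_powerset, subset_rfl, true_and]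
    rw [← hG, Ideal.map_span]⟩
  simp only [cands, Finset.mem_filter, Finset.mem_powerset] at hsc hmin
  obtain ⟨hsG, hsI⟩ := hsc
  have hsI' : ∀ x ∈ s, x ∈ I := fun x hx => hG ▸ Ideal.subset_span (hsG hx)
  let b : Fin s.card → A := fun i => (s.equivFin.symm i).1
  have hbr : Set.range b = (s : Set A) := by
    ext x
    exact ⟨fun ⟨i, hi⟩ => hi ▸ (s.equivFin.symm i).2, fun hx => ⟨s.equivFin ⟨x, hx⟩, by simp [b]⟩⟩
  have hIR : I.map ρ = Ideal.span (Set.range (ρ ∘ b)) := by
    rw [Set.range_comp, hbr]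
    refine le_antisymm hsI (Ideal.span_le.2 ?_)
    rintro _ ⟨x, hx, rfl⟩
    exact Ideal.mem_map_of_mem _ (hsI' x hx)
  have hindI : ∀ c : Fin s.card → R, ∑ i, c i * ρ (b i) ∈ IsLocalRing.maximalIdeal R * I.map ρ →
      ∀ i, c i ∈ IsLocalRing.maximalIdeal R := by
    intro c hc i
    by_contra hu
    rw [IsLocalRing.mem_maximalIdeal, mem_nonunits_iff, not_not] at hu
    let N := Ideal.span (ρ '' ((s.erase (b i) : Finset A) : Set A))
    have hoth : ∀ j, j ≠ i → ρ (b j) ∈ N := fun j hj => Ideal.subset_span ⟨b j, by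
      rw [Finset.mem_coe, Finset.mem_erase]
      exact ⟨fun h => hj (s.equivFin.symm.injective (Subtype.ext h)), (s.equivFin.symm j).2⟩, rfl⟩
    have hi : ρ (b i) ∈ N ⊔ IsLocalRing.maximalIdeal R • I.map ρ := by
      refine (Ideal.unit_mul_mem_iff_mem _ hu).1 ?_
      have : c i * ρ (b i) = ∑ j, c j * ρ (b j) - ∑ j ∈ Finset.univ.erase i, c j * ρ (b j) :=
        eq_sub_of_add_eq (Finset.add_sum_erase _ (fun j => c j * ρ (b j)) (Finset.mem_univ i))
      rw [this]
      refine sub_mem (Submodule.mem_sup_right (by rwa [smul_eq_mul]))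
        (Submodule.mem_sup_left (Submodule.sum_mem _ fun j hj =>
          Ideal.mul_mem_left _ _ (hoth j (Finset.ne_of_mem_erase hj))))
    have hle : I.map ρ ≤ N := by
      refine Submodule.le_of_le_smul_of_le_jacobson_bot ?_ (IsLocalRing.maximalIdeal_le_jacobson _) ?_
      · exact Ideal.FG.map ⟨G, hG⟩ ρ
      · rw [hIR, Ideal.span_le]
        rintro _ ⟨j, rfl⟩
        by_cases hj : j = i
        · subst hj; rw [← hIR]; exact hi
        · exact Submodule.mem_sup_left (hoth j hj)
    have := hmin _ ⟨(Finset.erase_subset _ _).trans hsG, hle⟩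
    exact absurd this (not_le.2 (Finset.card_erase_lt_of_mem (s.equivFin.symm i).2))
  have hsp : ∀ x ∈ G, ∃ t, t ∉ P ∧ t * x ∈ Ideal.span (s : Set A) := by
    intro x hx
    have hxR : ρ x ∈ (Ideal.span (s : Set A)).map ρ := by
      rw [Ideal.map_span]
      exact hsI (Ideal.mem_map_of_mem _ (hG ▸ Ideal.subset_span hx))
    obtain ⟨⟨⟨a, ha⟩, t⟩, he⟩ := (IsLocalization.mem_map_algebraMap_iff P.primeCompl R).1 hxR
    rw [← map_mul] at he
    obtain ⟨c, hc⟩ := IsLocalization.exists_of_eq (M := P.primeCompl) he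
    refine ⟨c.1 * t.1, P.primeCompl.mul_mem c.2 t.2, ?_⟩
    rw [show c.1 * t.1 * x = c.1 * a by rw [← hc]; ring]
    exact Ideal.mul_mem_left _ _ ha
  choose! t ht htx using hsp
  obtain ⟨g₂, hg₂, hgK⟩ := hK
  set g₀ := g₂ * ∏ x ∈ G, t x with hg₀def
  have hg₀ : g₀ ∉ P := P.primeCompl.mul_mem hg₂ (P.primeCompl.prod_mem fun x hx => ht x hx)
  set L := Localization.Away g₀
  haveI : Module.Flat A L := IsLocalization.flat _ (Submonoid.powers g₀)
  obtain ⟨f, hf, hfK⟩ := KindDesc.Loc.exists_numerators hP g₀ L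
    (KindDesc.Loc.gen_of_isUnit hP g₂ _ hgK L
      (isUnit_of_dvd_unit (map_dvd _ (dvd_mul_right g₂ _)) (IsLocalization.Away.algebraMap_isUnit g₀)))
  have hu0 : IsUnit (ρ g₀) := IsLocalization.map_units R (⟨g₀, hg₀⟩ : P.primeCompl)
  let ψ : L →+* R := IsLocalization.Away.lift g₀ hu0
  have hψ : ψ.comp (algebraMap A L) = ρ := IsLocalization.Away.lift_comp g₀ hu0
  have hψf : ψ.Flat := by
    letI := ψ.toAlgebra
    haveI : IsScalarTower A L R := IsScalarTower.of_algebraMap_eq' hψ.symm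
    exact (Module.flat_iff_of_isLocalization L (Submonoid.powers g₀) (M := R)).2
      (IsLocalization.flat _ P.primeCompl)
  have hfR : Φ R r (ρ ∘ f) := by
    have := hP.flat ψ hψf hf
    rwa [← Function.comp_assoc, ← RingHom.coe_comp, hψ] at this
  have hKR : K.map ρ = Ideal.span (Set.range (ρ ∘ f)) := by
    rw [← hψ, ← Ideal.map_map, hfK, Ideal.map_span, ← Set.range_comp]
    rfl
  have hm : P.map ρ = IsLocalRing.maximalIdeal R := Localization.AtPrime.map_eq_maximalIdeal
  have hKm : K.map ρ ≤ IsLocalRing.maximalIdeal R := hm ▸ Ideal.map_mono hKP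
  obtain ⟨e, a, hde, Cm, haT, hC, hF⟩ := KindDesc.Smooth.exists_completion hP (ρ ∘ f) hfR
    (fun i => hKm (hKR ▸ Ideal.subset_span ⟨i, rfl⟩)) (ρ '' K) (ρ ∘ b)
    (fun x ⟨k, hk, hx⟩ => hKR ▸ hx ▸ Ideal.mem_map_of_mem _ hk)
    (fun i => hKR ▸ Ideal.map_mono hIK (hIR ▸ Ideal.subset_span ⟨i, rfl⟩))
    (hKR ▸ le_sup_of_le_left (Ideal.span_mono Set.subset_union_left))
    (fun c hc i => by
      refine hindI c ?_ i
      have h1 : (∑ j, c j * (ρ ∘ b) j) ∈ I.map ρ :=
        hIR ▸ Ideal.mem_span_range_iff_exists_fun.2 ⟨c, rfl⟩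
      rw [← hKR, ← hm, ← Ideal.map_mul] at hc
      have h2 := Conormal92.SplitGen.localize_split P hs h1 hc
      rwa [Ideal.map_mul, hm] at h2)
  choose a' ha' hae using haT
  subst hde
  obtain ⟨h, hh, hhu, hFA, hFspan⟩ := KindDesc.Smooth.exists_spread hP P g₀ hg₀ f (app a' b) hf Cm hC (by
    rw [map_app, show ρ ∘ a' = a from funext hae, hF]
    rfl)
  set S := Localization.Away h
  set σ := algebraMap A S
  haveI : Module.Flat A S := IsLocalization.flat _ (Submonoid.powers h)
  let θ : L →+* S := IsLocalization.Away.lift g₀ hhu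
  have hθ : θ.comp (algebraMap A L) = σ := IsLocalization.Away.lift_comp g₀ hhu
  have hIS : I.map σ = Ideal.span (Set.range (σ ∘ b)) := by
    rw [Set.range_comp, hbr, ← Ideal.map_span]
    refine le_antisymm ?_ (Ideal.map_mono (Ideal.span_le.2 fun x hx => hsI' x hx))
    rw [← hG, Ideal.map_span, Ideal.span_le]
    rintro _ ⟨x, hx, rfl⟩
    have hut : IsUnit (σ (t x)) :=
      isUnit_of_dvd_unit (map_dvd σ ((Finset.dvd_prod_of_mem t hx).trans (dvd_mul_left _ g₂))) hhu
    refine (Ideal.unit_mul_mem_iff_mem _ hut).1 ?_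
    rw [← map_mul]
    exact Ideal.mem_map_of_mem _ (htx x hx)
  have hKS : K.map σ = Ideal.span (Set.range (σ ∘ app a' b)) := by
    rw [hFspan, ← hθ, ← Ideal.map_map, hfK, Ideal.map_span, ← Set.range_comp]
    rfl
  rw [map_app] at hFA hKS
  let T := Localization.Away (φ h)
  haveI : IsLocalization ((Submonoid.powers h).map φ) T := by
    rw [Submonoid.map_powers]
    infer_instance
  let χ : S →+* T := IsLocalization.map (M := Submonoid.powers h) T φ (Submonoid.le_comap_map _)
  have hχs : Function.Surjective χ := IsLocalization.map_surjective_of_surjective _ _ _ hφ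
  have hχc : χ.comp σ = (algebraMap B T).comp φ :=
    IsLocalization.map_comp (Submonoid.le_comap_map _)
  have hχk : RingHom.ker χ = Ideal.span (Set.range (σ ∘ b)) := by
    rw [← hIS]
    exact IsLocalization.ker_map (S := S) T φ rfl
  have hz0 : ∀ i, χ ((σ ∘ b) i) = 0 := fun i =>
    RingHom.mem_ker.1 (hχk ▸ Ideal.subset_span ⟨i, rfl⟩)
  obtain ⟨ι, hι, hι1, hι2, hι3⟩ := exists_index (σ ∘ a') (σ ∘ b)
  have hT : Φ T e (χ ∘ (σ ∘ a')) := by
    have := hquot χ hχs (app (σ ∘ a') (σ ∘ b)) ι hι (fun l hl => by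
      obtain ⟨i, hi⟩ := hι2 l hl
      rw [← hi]; exact hz0 i) (hχk.le.trans (Ideal.span_mono hι3)) hFA
    rwa [show χ ∘ app (σ ∘ a') (σ ∘ b) ∘ ι = χ ∘ (σ ∘ a') from funext fun j => congrArg χ (hι1 j)] at this
  refine ⟨e, KindDesc.Loc.genLoc_mk hP (φ h) hh T ⟨_, hT, ?_⟩⟩
  have h0 : χ ∘ (σ ∘ b) = fun _ => 0 := funext hz0
  rw [Ideal.map_map, ← hχc, ← Ideal.map_map, hKS, Ideal.map_span, ← Set.range_comp, map_app, h0,
    range_app, Ideal.span_union]
  exact sup_eq_left.2 (Ideal.span_le.2 (by rintro _ ⟨i, rfl⟩; exact zero_mem _))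

end Groth.Agent.H2.SplitPerm
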