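import Groth.Agent.H2.SplitPerm.Alg
import Groth.Agent.H2.H1Conormal.Basic
import Groth.Agent.Lib.Conormal92.SplitRegular
import Groth.Agent.Lib.KindDesc.Imm
import Mathlib.AlgebraicGeometry.Morphisms.FinitePresentation
import Mathlib.RingTheory.FinitePresentation

/-!
# Permanence of regularity for a split conormal sequence
-/

set_option autoImplicit false
set_option linter.style.haveILetI false
set_option backward.isDefEq.respectTransparency false
universe u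

open CategoryTheory CategoryTheory.Limits AlgebraicGeometry TopologicalSpace Opposite OmegaSh
open Groth.Agent.Lib Groth.Agent.Lib.Synt92
open scoped TensorProduct

namespace Groth.Agent.H2.SplitPerm

open Groth.Agent.Lib.Conormal92

variable {X Y Z : Scheme.{u}} {i : Y ⟶ X} {j : Z ⟶ Y} [QuasiCompact i] [QuasiCompact j]

omit [QuasiCompact j] in
/-- An ideal section whose class in the pulled back conormal sheaf vanishes lies in `K · I`. -/
theorem mem_mul_of_pullSect_eq_zero {V : X.Opens}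
    (hi : Affine.IsChart i V) (hj : Affine.IsChart j (i ⁻¹ᵁ V)) (k : Γ(ClSub.idealMod i.ker, V))
    (hk : pullSect j (Omega.conormal i) (i ⁻¹ᵁ V) (conormalSect i V k) = 0) :
    idealSect i.ker V k ∈ RingHom.ker ((j ≫ i).app V).hom * RingHom.ker (i.app V).hom := by
  haveI := Affine.isQCoh_conormal i
  let M := Omega.conormal i
  let U := i ⁻¹ᵁ V
  letI : Algebra Γ(Y, U) Γ(Z, j ⁻¹ᵁ U) := (j.appLE U (j ⁻¹ᵁ U) le_rfl).hom.toAlgebra
  letI : Module Γ(Y, U) Γ((Scheme.Modules.pullback j).obj M, j ⁻¹ᵁ U) :=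
    Module.compHom _ (j.appLE U (j ⁻¹ᵁ U) le_rfl).hom
  haveI : IsScalarTower Γ(Y, U) Γ(Z, j ⁻¹ᵁ U) Γ((Scheme.Modules.pullback j).obj M, j ⁻¹ᵁ U) :=
    IsScalarTower.of_algebraMap_smul fun _ _ => rfl
  have hb := CechRes.PullSec.isBaseChange_mu j M hi.affine_preimage hj.affine_preimage le_rfl
  have halg : algebraMap Γ(Y, U) Γ(Z, j ⁻¹ᵁ U) = (j.app U).hom := by
    show (j.appLE U (j ⁻¹ᵁ U) le_rfl).hom = _
    rw [← Scheme.Hom.app_eq_appLE]
  have hs : Function.Surjective (algebraMap Γ(Y, U) Γ(Z, j ⁻¹ᵁ U)) := by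
    rw [halg]; exact hj.surj
  have h0 : (1 : Γ(Z, j ⁻¹ᵁ U)) ⊗ₜ[Γ(Y, U)] (conormalSect i V k : Γ(M, U)) = 0 := by
    rw [← LinearEquiv.map_eq_zero_iff hb.equiv, hb.equiv_tmul, one_smul]
    show ((Scheme.Modules.pullback j).obj M).presheaf.map (homOfLE le_rfl).op
      (pullSect j M (i ⁻¹ᵁ V) (conormalSect i V k)) = 0
    rw [hk, map_zero]
  have hmem := ((Affine.one_tmul_spec hs (M := Γ(M, U))).2 _).1 h0
  rw [halg] at hmem
  have hch := hi
  suffices ∃ k', conormalSect i V k' = conormalSect i V k ∧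
      idealSect i.ker V k' ∈ RingHom.ker ((j ≫ i).app V).hom * RingHom.ker (i.app V).hom by
    obtain ⟨k', hk', hmem'⟩ := this
    have h2 := (Affine.conormalSect_eq_iff hch k k').1 hk'.symm
    have hle : (RingHom.ker (i.app V).hom) ^ 2 ≤
        RingHom.ker ((j ≫ i).app V).hom * RingHom.ker (i.app V).hom := by
      rw [pow_two]
      refine Ideal.mul_mono_left fun x hx => ?_
      rw [RingHom.mem_ker] at hx ⊢
      show j.app (i ⁻¹ᵁ V) (i.app V x) = 0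
      rw [show i.app V x = 0 from hx, map_zero]
    simpa using add_mem (hle h2) hmem'
  refine Submodule.smul_induction_on hmem (fun a ha c _ => ?_) ?_
  · obtain ⟨a', rfl⟩ := hch.surj a
    obtain ⟨k', rfl⟩ := (Affine.conormalSect_spec hch).1 c
    refine ⟨a' • k', Kaehler.Conormal.conormalSect_smul i V a' k', ?_⟩
    rw [Kaehler.Conormal.idealSect_smul]
    exact Ideal.mul_mem_mul ha ((Affine.exists_idealSect_iff hi.affine _).1 ⟨k', rfl⟩)
  · rintro x y ⟨k₁, h₁, h₁'⟩ ⟨k₂, h₂, h₂'⟩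
    exact ⟨k₁ + k₂, by rw [map_add, h₁, h₂], by rw [map_add]; exact add_mem h₁' h₂'⟩

/-- A left inverse of the first conormal map on sections forces the ideals to be split. -/
theorem mem_mul_of_retraction 
    {φ₁ : (Scheme.Modules.pullback j).obj (Omega.conormal i) ⟶ Omega.conormal (j ≫ i)}
    (hφ₁ : IsConormalMap (j ≫ i) i (𝟙 X) j φ₁) {V : X.Opens} (hi : Affine.IsChart i V) (hj : Affine.IsChart j (i ⁻¹ᵁ V))
    (r : Γ(Omega.conormal (j ≫ i), (j ≫ i) ⁻¹ᵁ V) →+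
      Γ((Scheme.Modules.pullback j).obj (Omega.conormal i), (j ≫ i) ⁻¹ᵁ V))
    (hr : ∀ (a : Γ(Z, (j ≫ i) ⁻¹ᵁ V)) y, r (a • y) = a • r y)
    (hrφ : ∀ x, r (φ₁.app ((j ≫ i) ⁻¹ᵁ V) x) = x) (P : Ideal Γ(X, V))
    (hKP : RingHom.ker ((j ≫ i).app V).hom ≤ P) (x : Γ(X, V)) (hx : x ∈ RingHom.ker (i.app V).hom)
    (hxP : x ∈ P * RingHom.ker ((j ≫ i).app V).hom) : x ∈ P * RingHom.ker (i.app V).hom := by
  obtain ⟨k, rfl⟩ := (Affine.exists_idealSect_iff hi.affine x).2 hx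
  have hval : ∀ m, φ₁.app ((j ≫ i) ⁻¹ᵁ V) (pullSect j (Omega.conormal i) (i ⁻¹ᵁ V) (conormalSect i V m)) =
      conormalSect (j ≫ i) V (Kaehler.Conormal.liftSect hφ₁.1 V m) := fun m => by
    refine Eq.trans (Kaehler.Conormal.app_eq hφ₁ V m) ?_
    exact congr($((Omega.conormal (j ≫ i)).presheaf.map_id _) _)
  suffices ∀ y ∈ P * RingHom.ker ((j ≫ i).app V).hom, ∃ (l : Γ(ClSub.idealMod (j ≫ i).ker, V))
      (w : Γ(ClSub.idealMod i.ker, V)), idealSect (j ≫ i).ker V l = y ∧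
      idealSect i.ker V w ∈ P * RingHom.ker (i.app V).hom ∧
      r (conormalSect (j ≫ i) V l) = pullSect j (Omega.conormal i) (i ⁻¹ᵁ V) (conormalSect i V w) by
    obtain ⟨l, w, hl, hw, hlw⟩ := this _ hxP
    have hl' : l = Kaehler.Conormal.liftSect hφ₁.1 V k :=
      Kaehler.Conormal.idealSect_injective (j ≫ i) V
        (hl.trans (Kaehler.Conormal.idealSect_liftSect hφ₁.1 V k).symm)
    rw [hl', ← hval k, hrφ] at hlw
    have hd := mem_mul_of_pullSect_eq_zero (j := j) hi hj (k - w) (by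
      rw [map_sub, map_sub, hlw, sub_self])
    rw [map_sub] at hd
    simpa using add_mem (Ideal.mul_mono_left hKP hd) hw
  intro y hy
  refine Submodule.mul_induction_on hy (fun p hp t ht => ?_) ?_
  · obtain ⟨l, rfl⟩ := (Affine.exists_idealSect_iff hi.affine t).2 ht
    obtain ⟨w, hw⟩ := H1Conormal.exists_pullSect_eq (i := i) (j := j) hi hj (r (conormalSect (j ≫ i) V l))
    refine ⟨p • l, p • w, Kaehler.Conormal.idealSect_smul (j ≫ i) V p l, ?_, ?_⟩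
    · rw [Kaehler.Conormal.idealSect_smul]
      exact Ideal.mul_mem_mul hp ((Affine.exists_idealSect_iff hi.affine _).1 ⟨w, rfl⟩)
    · rw [Kaehler.Conormal.conormalSect_smul, Kaehler.Conormal.conormalSect_smul]
      refine (hr _ _).trans ?_
      rw [← hw]
      exact (Scheme.Modules.Hom.app_smul
        ((Scheme.Modules.pullbackPushforwardAdjunction j).unit.app (Omega.conormal i))
        (i.app V p) (conormalSect i V w)).symm
  · rintro y₁ y₂ ⟨l₁, w₁, e₁, m₁, c₁⟩ ⟨l₂, w₂, e₂, m₂, c₂⟩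
    exact ⟨l₁ + l₂, w₁ + w₂, by rw [map_add, e₁, e₂], by rw [map_add]; exact add_mem m₁ m₂,
      by rw [map_add, map_add, c₁, c₂, map_add, map_add]⟩

omit [QuasiCompact i] [QuasiCompact j] in
/-- A common chart of two immersions. -/
theorem exists_chart_pair [IsImmersion i] [IsImmersion j] (z : Z) {O : X.Opens} (hz : i (j z) ∈ O) :
    ∃ V : X.Opens, IsAffineOpen V ∧ i (j z) ∈ V ∧ V ≤ O ∧ IsClosedImmersion (i ∣_ V) ∧
      IsClosedImmersion (j ∣_ (i ⁻¹ᵁ V)) ∧ IsClosedImmersion ((j ≫ i) ∣_ V) := by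
  obtain ⟨U₁, hz₁, -, hc₁⟩ := KRImm.exists_closed_chart j z (O := ⊤) trivial
  obtain ⟨W, hW, hWU⟩ := i.isEmbedding.isInducing.isOpen_iff.mp U₁.1.2
  have hpre : ∀ y : Y, y ∈ U₁.1 ↔ i y ∈ W := fun y => (Set.ext_iff.mp hWU y).symm
  obtain ⟨U₀, hz₀, hU₀, hc₀⟩ := KRImm.exists_closed_chart i (j z) (O := O ⊓ ⟨W, hW⟩)
    ⟨hz, (hpre _).mp hz₁⟩
  have hle : i ⁻¹ᵁ U₀.1 ≤ U₁.1 := fun y hy => (hpre y).mpr (hU₀ hy).2
  have hcj := KRImm.closed_of_le j hle hc₁
  refine ⟨U₀.1, U₀.2, hz₀, hU₀.trans inf_le_left, hc₀, hcj, ?_⟩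
  rw [morphismRestrict_comp]
  exact MorphismProperty.comp_mem @IsClosedImmersion _ _ hcj hc₀

omit [QuasiCompact i] in
theorem ker_fg [LocallyOfFinitePresentation i] {V : X.Opens} (h : Affine.IsChart i V) :
    (RingHom.ker (i.app V).hom).FG := by
  have hfp := i.finitePresentation_appLE h.affine h.affine_preimage le_rfl
  rw [← Scheme.Hom.app_eq_appLE] at hfp
  algebraize [(i.app V).hom]
  exact Algebra.FinitePresentation.ker_fG_of_surjective (Algebra.ofId Γ(X, V) Γ(Y, i ⁻¹ᵁ V)) h.surj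

variable [IsImmersion i] [IsImmersion j]
  {φ₁ : (Scheme.Modules.pullback j).obj (Omega.conormal i) ⟶ Omega.conormal (j ≫ i)}

/-- A local retraction gives, at a point, a chart with split ideals. -/
theorem exists_split_chart (hφ₁ : IsConormalMap (j ≫ i) i (𝟙 X) j φ₁) (z : Z) {U : Z.Opens} (hzU : z ∈ U)
    (ρ : (Scheme.Modules.restrictFunctor U.ι).obj (Omega.conormal (j ≫ i)) ⟶
      (Scheme.Modules.restrictFunctor U.ι).obj ((Scheme.Modules.pullback j).obj (Omega.conormal i)))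
    (hρ : (Scheme.Modules.restrictFunctor U.ι).map φ₁ ≫ ρ = 𝟙 _) :
    ∃ (V : X.Opens) (hV : IsAffineOpen V) (hzV : i (j z) ∈ V) (hpV : IsAffineOpen (i ⁻¹ᵁ V)),
      IsClosedImmersion (i ∣_ V) ∧ IsClosedImmersion (j ∣_ (i ⁻¹ᵁ V)) ∧
      IsClosedImmersion ((j ≫ i) ∣_ V) ∧
      RingHom.ker (i.app V).hom ≤ RingHom.ker ((j ≫ i).app V).hom ∧
      RingHom.ker ((j ≫ i).app V).hom ≤ (hpV.primeIdealOf ⟨j z, hzV⟩).asIdeal.comap (i.app V).hom ∧
      (hpV.primeIdealOf ⟨j z, hzV⟩).asIdeal.comap (i.app V).hom = (hV.primeIdealOf ⟨i (j z), hzV⟩).asIdeal ∧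
      (RingHom.ker ((j ≫ i).app V).hom).map (i.app V).hom = RingHom.ker (j.app (i ⁻¹ᵁ V)).hom ∧
      ∀ x ∈ RingHom.ker (i.app V).hom,
        x ∈ (hpV.primeIdealOf ⟨j z, hzV⟩).asIdeal.comap (i.app V).hom * RingHom.ker ((j ≫ i).app V).hom →
        x ∈ (hpV.primeIdealOf ⟨j z, hzV⟩).asIdeal.comap (i.app V).hom * RingHom.ker (i.app V).hom := by
  obtain ⟨O', hO', hOU⟩ := (j ≫ i).isEmbedding.isInducing.isOpen_iff.1 U.2
  let O : X.Opens := ⟨O', hO'⟩
  have hO : (j ≫ i) ⁻¹ᵁ O = U := Opens.ext hOU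
  have hzO : (j ≫ i) z ∈ O := by
    show z ∈ (j ≫ i) ⁻¹ᵁ O
    rwa [hO]
  obtain ⟨V, hV, hzV, hVO, hci, hcj, hcc⟩ := exists_chart_pair (i := i) (j := j) z (O := O) hzO
  have hi : Affine.IsChart i V := ⟨hV, (KRImm.isAffine_preimage i hV hci).1, (KRImm.isAffine_preimage i hV hci).2⟩
  have hj : Affine.IsChart j (i ⁻¹ᵁ V) :=
    ⟨hi.affine_preimage, (KRImm.isAffine_preimage j hi.affine_preimage hcj).1,
      (KRImm.isAffine_preimage j hi.affine_preimage hcj).2⟩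
  have hpV := hi.affine_preimage
  obtain ⟨ret, hret, hretφ⟩ := SplitRegular.exists_retraction φ₁ ρ hρ (W := (j ≫ i) ⁻¹ᵁ V)
    (hO ▸ (j ≫ i).preimage_mono (fun x hx => hVO hx))
  set Q := (hpV.primeIdealOf ⟨j z, hzV⟩).asIdeal
  have hP : Q.comap (i.app V).hom = (hV.primeIdealOf ⟨i (j z), hzV⟩).asIdeal := by
    ext a
    rw [← not_iff_not, Ideal.mem_comap, ← KRImm.mem_basicOpen_iff, ← KRImm.mem_basicOpen_iff,
      ← Scheme.preimage_basicOpen]
    rfl
  have hKP : RingHom.ker ((j ≫ i).app V).hom ≤ Q.comap (i.app V).hom := fun a ha => by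
    rw [hP]
    by_contra h
    have h1 : z ∈ (j ≫ i) ⁻¹ᵁ X.basicOpen a :=
      (KRImm.mem_basicOpen_iff hV a ⟨i (j z), hzV⟩).2 h
    rw [Scheme.preimage_basicOpen, show (j ≫ i).app V a = 0 from ha, Scheme.basicOpen_zero] at h1
    exact h1
  have hIK : RingHom.ker (i.app V).hom ≤ RingHom.ker ((j ≫ i).app V).hom := fun x hx => by
    rw [RingHom.mem_ker] at hx ⊢
    show j.app (i ⁻¹ᵁ V) (i.app V x) = 0
    rw [show i.app V x = 0 from hx, map_zero]
  refine ⟨V, hV, hzV, hpV, hci, hcj, hcc, hIK, hKP, hP, ?_,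
    fun x hx hxP => mem_mul_of_retraction hφ₁ hi hj ret hret hretφ _ hKP x hx hxP⟩
  rw [show RingHom.ker ((j ≫ i).app V).hom = (RingHom.ker (j.app (i ⁻¹ᵁ V)).hom).comap (i.app V).hom
    from by rw [RingHom.comap_ker]; rfl, Ideal.map_comap_of_surjective _ hi.surj]

/-- The inner immersion is regular of the given kind at a point with a local retraction. -/
theorem atN_of_retraction {Φ : KindDesc.Pred.{u}} (hΦ : KindDesc.Good Φ) (hquot : Quot Φ)
    [LocallyOfFinitePresentation i]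
    (hφ₁ : IsConormalMap (j ≫ i) i (𝟙 X) j φ₁) (z : Z) {r : ℕ}
    (hij : KindDesc.Imm.AtN Φ r (j ≫ i) z) {U : Z.Opens} (hzU : z ∈ U)
    (ρ : (Scheme.Modules.restrictFunctor U.ι).obj (Omega.conormal (j ≫ i)) ⟶
      (Scheme.Modules.restrictFunctor U.ι).obj ((Scheme.Modules.pullback j).obj (Omega.conormal i)))
    (hρ : (Scheme.Modules.restrictFunctor U.ι).map φ₁ ≫ ρ = 𝟙 _) :
    ∃ e, KindDesc.Imm.AtN Φ e j z := by
  obtain ⟨V, hV, hzV, hpV, hci, hcj, hcc, hIK, hKP, hP, hmap, hs⟩ := exists_split_chart hφ₁ z hzU ρ hρ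
  have hi : Affine.IsChart i V := ⟨hV, (KRImm.isAffine_preimage i hV hci).1, (KRImm.isAffine_preimage i hV hci).2⟩
  haveI := (hpV.primeIdealOf ⟨j z, hzV⟩).isPrime
  have hgK : KindDesc.Loc.GenLoc Φ r (RingHom.ker ((j ≫ i).app V).hom)
      ((hpV.primeIdealOf ⟨j z, hzV⟩).asIdeal.comap (i.app V).hom) := by
    rw [hP]; exact KindDesc.Imm.genAt_of_atN hΦ hij hV hcc hzV
  obtain ⟨e, he⟩ := genLoc_map hΦ hquot (i.app V).hom hi.surj (ker_fg hi) hIK _ hKP hgK hs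
  refine ⟨e, KindDesc.Imm.atN_of_genAt hΦ hpV hcj hzV ?_⟩
  unfold KindDesc.Imm.GenAt
  rwa [← hmap]

/-- The Koszul-regular case. -/
theorem atN_koszul_of_retraction
    (hφ₁ : IsConormalMap (j ≫ i) i (𝟙 X) j φ₁) (z : Z) {n r : ℕ} (hin : KRImm.AtN n i (j z))
    (hij : KRImm.AtN r (j ≫ i) z) {U : Z.Opens} (hzU : z ∈ U)
    (ρ : (Scheme.Modules.restrictFunctor U.ι).obj (Omega.conormal (j ≫ i)) ⟶
      (Scheme.Modules.restrictFunctor U.ι).obj ((Scheme.Modules.pullback j).obj (Omega.conormal i)))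
    (hρ : (Scheme.Modules.restrictFunctor U.ι).map φ₁ ≫ ρ = 𝟙 _) : ∃ e, KRImm.AtN e j z := by
  obtain ⟨V, hV, hzV, hpV, hci, hcj, hcc, hIK, hKP, hP, hmap, hs⟩ := exists_split_chart hφ₁ z hzU ρ hρ
  haveI := (hpV.primeIdealOf ⟨j z, hzV⟩).isPrime
  have hgI : KRLoc.GenLoc n (RingHom.ker (i.app V).hom)
      ((hpV.primeIdealOf ⟨j z, hzV⟩).asIdeal.comap (i.app V).hom) := by
    rw [hP]; exact KRImm.genAt_of_atN hin hV hci hzV
  have hgK : KRLoc.GenLoc r (RingHom.ker ((j ≫ i).app V).hom)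
      ((hpV.primeIdealOf ⟨j z, hzV⟩).asIdeal.comap (i.app V).hom) := by
    rw [hP]; exact KRImm.genAt_of_atN hij hV hcc hzV
  obtain ⟨e, he⟩ := SplitGen.genLoc_map (i.app V).hom (KRImm.isAffine_preimage i hV hci).2 hIK _ hKP hgI hgK hs
  refine ⟨e, KRImm.atN_of_genAt hpV hcj hzV ?_⟩
  unfold KRImm.GenAt
  rwa [← hmap]

end Groth.Agent.H2.SplitPerm
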