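import Groth.Agent.H2.SplitPerm.Imm
import Groth.Agent.H26.RegQuasi
import Groth.Agent.Lib.Regular45.QuasiRegConverse
import Groth.Agent.Lib.QCohChart.Retraction
import Mathlib.AlgebraicGeometry.Noetherian

/-!
# Regular immersions of locally Noetherian schemes and split conormal sequences
-/

set_option autoImplicit false
set_option linter.style.haveILetI false
set_option backward.isDefEq.respectTransparency false
universe u

open CategoryTheory CategoryTheory.Limits AlgebraicGeometry TopologicalSpace Opposite OmegaSh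
open Groth.Agent.Lib Groth.Agent.Lib.Synt92

namespace Groth.Agent.H2.SplitPerm

open Groth.Agent.Lib.Conormal92 CubeComp RingTheory.Sequence

/-- If an ideal and its image in a quotient are both generated by `H₁`-regular sequences, then the
kernel is generated by a regular sequence. -/
theorem exists_regular_gens {R B : Type u} [CommRing R] [IsLocalRing R] [IsNoetherianRing R]
    [CommRing B] (χ : R →+* B) (hχ : Function.Surjective χ) {r m : ℕ} (f : Fin r → R)
    (hf : CAlgX.IsH1Regular f) (hfm : Ideal.span (Set.range f) ≤ IsLocalRing.maximalIdeal R)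
    (hker : RingHom.ker χ ≤ Ideal.span (Set.range f)) (g : Fin m → B)
    (hg : CAlgX.IsH1Regular g) (hspan : (Ideal.span (Set.range f)).map χ = Ideal.span (Set.range g)) :
    ∃ rs : List R, IsWeaklyRegular R rs ∧ Ideal.ofList rs = RingHom.ker χ := by
  choose a ha using fun k => hχ (g k)
  set K := Ideal.span (Set.range f) with hK
  have haK : ∀ k, a k ∈ K := fun k => by
    have h : χ (a k) ∈ K.map χ := hspan ▸ ha k ▸ Ideal.subset_span ⟨k, rfl⟩
    obtain ⟨x, hx, hxa⟩ := (Ideal.mem_map_iff_of_surjective χ hχ).1 h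
    have : a k - x ∈ RingHom.ker χ := by rw [RingHom.mem_ker, map_sub, hxa, sub_self]
    simpa using add_mem (hker this) hx
  have hmm : (IsLocalRing.maximalIdeal R).map χ ≠ ⊤ := fun h => by
    obtain ⟨x, hx, hx1⟩ := (Ideal.mem_map_iff_of_surjective χ hχ).1 (h ▸ Submodule.mem_top : (1 : B) ∈ _)
    have : 1 - x ∈ RingHom.ker χ := by rw [RingHom.mem_ker, map_sub, hx1, map_one, sub_self]
    exact (IsLocalRing.maximalIdeal.isMaximal R).ne_top
      ((Ideal.eq_top_iff_one _).2 (by simpa using add_mem (hfm (hker this)) hx))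
  have hback : ∀ x, χ x ∈ (IsLocalRing.maximalIdeal R).map χ → x ∈ IsLocalRing.maximalIdeal R := by
    intro x hx
    obtain ⟨y, hy, hyx⟩ := (Ideal.mem_map_iff_of_surjective χ hχ).1 hx
    have : x - y ∈ RingHom.ker χ := by rw [RingHom.mem_ker, map_sub, hyx, sub_self]
    simpa using add_mem (hfm (hker this)) hy
  have hgm : Ideal.span (Set.range g) ≤ (IsLocalRing.maximalIdeal R).map χ :=
    hspan ▸ Ideal.map_mono hfm
  obtain ⟨e, bI, hde, C, hbT, hC, hF⟩ := KindDesc.Smooth.exists_completion KindDesc.good_h1 f hf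
    (fun i => hfm (Ideal.subset_span ⟨i, rfl⟩)) (RingHom.ker χ : Set R) a (fun x hx => hker hx) haK
    (le_sup_of_le_left fun x hx => by
      obtain ⟨c, hc⟩ := Ideal.mem_span_range_iff_exists_fun.1 (hspan ▸ Ideal.mem_map_of_mem χ hx)
      choose c' hc' using fun k => hχ (c k)
      have h1 : x - ∑ k, c' k * a k ∈ RingHom.ker χ := by
        rw [RingHom.mem_ker, map_sub, map_sum, ← hc]
        simp [hc', ha]
      have h2 : x - ∑ k, c' k * a k + ∑ k, c' k * a k ∈ Ideal.span ((RingHom.ker χ : Set R) ∪ Set.range a) :=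
        add_mem (Ideal.subset_span (Or.inl h1))
          (Submodule.sum_mem _ fun k _ => Ideal.mul_mem_left _ (c' k) (Ideal.subset_span (Or.inr ⟨k, rfl⟩)))
      rwa [sub_add_cancel] at h2)
    (fun c hc k => by
      refine hback _ ?_
      have h1 : ∑ k, χ (c k) * g k ∈ (IsLocalRing.maximalIdeal R).map χ * Ideal.span (Set.range g) := by
        rw [← hspan, ← Ideal.map_mul]
        convert Ideal.mem_map_of_mem χ hc using 1
        simp [map_sum, ha]
      obtain ⟨d, hd, hde⟩ : ∃ d : Fin m → B, (∀ l, d l ∈ (IsLocalRing.maximalIdeal R).map χ) ∧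
          ∑ l, d l * g l = ∑ l, χ (c l) * g l := by
        refine Submodule.mul_induction_on h1 (fun p hp x hx => ?_) ?_
        · obtain ⟨c, rfl⟩ := Ideal.mem_span_range_iff_exists_fun.1 hx
          exact ⟨fun l => p * c l, fun l => Ideal.mul_mem_right _ _ hp, by
            rw [Finset.mul_sum]; exact Finset.sum_congr rfl fun l _ => mul_assoc _ _ _⟩
        · rintro _ _ ⟨d, hd, rfl⟩ ⟨d', hd', rfl⟩
          exact ⟨d + d', fun l => add_mem (hd l) (hd' l), by simp [add_mul, Finset.sum_add_distrib]⟩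
      have h2 := KindDesc.h1_rel hg (c := fun l => χ (c l) - d l)
        (by simp [sub_mul, Finset.sum_sub_distrib, hde]) k
      simpa using add_mem (hgm h2) (hd k))
  have hall : Ideal.span (Set.range (app bI a)) = K := by
    rw [hF, KindDesc.Loc.span_mulVec C hC]
    exact congrArg Ideal.span (Function.Surjective.range_comp (finCongr hde).surjective f)
  have hh1 : CAlgX.IsH1Regular (app bI a) :=
    KindDesc.good_h1.card_eq (KindDesc.Loc.pred_cast hde hf)
      (hall.trans (congrArg Ideal.span (Function.Surjective.range_comp (finCongr hde).surjective f).symm))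
  have hbker : ∀ l, bI l ∈ RingHom.ker χ := hbT
  have hle : RingHom.ker χ ≤ Ideal.span (Set.range bI) ⊔
      IsLocalRing.maximalIdeal R • RingHom.ker χ := by
    intro x hx
    have hxK : x ∈ Ideal.span (Set.range bI) ⊔ Ideal.span (Set.range a) := by
      rw [← Ideal.span_union, ← range_app, hall]
      exact hker hx
    obtain ⟨u, hu, v, hv, rfl⟩ := Submodule.mem_sup.1 hxK
    obtain ⟨c, rfl⟩ := Ideal.mem_span_range_iff_exists_fun.1 hv
    refine add_mem (Submodule.mem_sup_left hu) (Submodule.mem_sup_right ?_)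
    have hv0 : χ (∑ k, c k * a k) = 0 := by
      have h0 := RingHom.mem_ker.1 hx
      rwa [map_add, RingHom.mem_ker.1 (Ideal.span_le.2 (by rintro _ ⟨l, rfl⟩; exact hbker l) hu),
        zero_add] at h0
    obtain ⟨s, hs⟩ := (Groth.Agent.H26.H1Quasi.isH1Regular_iff g).mp hg (fun k => χ (c k)) (by
      rw [← hv0, map_sum]
      exact Finset.sum_congr rfl fun k _ => by rw [map_mul, ha])
    choose S hS using fun k l => hχ (s k l)
    have hanti : ∑ k, (∑ l, a l * (S k l - S l k)) * a k = 0 := by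
      simp only [Finset.sum_mul, mul_sub, sub_mul, Finset.sum_sub_distrib]
      rw [sub_eq_zero]
      conv_lhs => rw [Finset.sum_comm]
      exact Finset.sum_congr rfl fun k _ => Finset.sum_congr rfl fun l _ => by ring
    rw [show ∑ k, c k * a k = ∑ k, a k * (c k - ∑ l, a l * (S k l - S l k)) by
      simp only [mul_comm (a _) (c _ - _), sub_mul, Finset.sum_sub_distrib, hanti, sub_zero], smul_eq_mul]
    refine Submodule.sum_mem _ fun k _ => Ideal.mul_mem_mul (hfm (haK k)) ?_
    rw [RingHom.mem_ker, map_sub, show χ (c k) = _ from hs k, map_sum, sub_eq_zero]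
    exact Finset.sum_congr rfl fun l _ => by simp [ha, hS]
  have heq : RingHom.ker χ = Ideal.span (Set.range bI) :=
    le_antisymm (Submodule.le_of_le_smul_of_le_jacobson_bot (IsNoetherian.noetherian _)
      (IsLocalRing.maximalIdeal_le_jacobson _) hle) (Ideal.span_le.2 (by rintro _ ⟨l, rfl⟩; exact hbker l))
  refine ⟨List.ofFn bI, ?_, by rw [← KindDesc.Loc.span_range_eq_ofList, heq]⟩
  have hw := Groth.Agent.Lib.Regular45.QuasiRegConverse.isWeaklyRegular_of_quasiRegular (m + e) R (app bI a)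
    (fun l => by
      rw [← Ideal.jacobson_bot, IsLocalRing.jacobson_eq_maximalIdeal (⊥ : Ideal R) bot_ne_top]
      exact hfm (hall.le (Ideal.subset_span ⟨l, rfl⟩)))
    (Groth.Agent.H26.H1Quasi.isQuasiRegular hh1)
  rw [ofFn_app] at hw
  exact ((isWeaklyRegular_append_iff R _ _).1 hw).1

theorem h1At_of_regularAt {X Z : Scheme.{u}} {i : Z ⟶ X} {z : Z}
    (h : RegImm.IsRegularImmersionAt .regular i z) : RegImm.IsRegularImmersionAt .h1 i z := by
  obtain ⟨U, h1, h2, rs, h3, h4⟩ := h
  exact ⟨U, h1, h2, rs, H26.RegKinds.h1_of_koszul rs (H26.RegKinds.koszul_of_regular rs h3), h4⟩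

theorem koszulAt_of_regularAt {X Z : Scheme.{u}} {i : Z ⟶ X} {z : Z}
    (h : RegImm.IsRegularImmersionAt .regular i z) : RegImm.IsRegularImmersionAt .koszul i z := by
  obtain ⟨U, h1, h2, rs, h3, h4⟩ := h
  exact ⟨U, h1, h2, rs, H26.RegKinds.koszul_of_regular rs h3, h4⟩

theorem regularAt_of_h1At {X Z : Scheme.{u}} [IsLocallyNoetherian X] {i : Z ⟶ X} {z : Z}
    (h : RegImm.IsRegularImmersionAt .h1 i z) : RegImm.IsRegularImmersionAt .regular i z := by
  obtain ⟨U, h1, h2, rs, h3, h4⟩ := h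
  exact H26.RegQuasi.regular_of_quasi i z ⟨U, h1, h2, rs, H26.H1Quasi.isQuasiRegular h3, h4⟩

variable {X Y Z : Scheme.{u}} {i : Y ⟶ X} {j : Z ⟶ Y} [IsImmersion i] [IsImmersion j]

/-- Composites of regular immersions. -/
theorem regularAt_comp [IsLocallyNoetherian X] (z : Z)
    (hj : RegImm.IsRegularImmersionAt .regular j z)
    (hi : RegImm.IsRegularImmersionAt .regular i (j z)) :
    RegImm.IsRegularImmersionAt .regular (j ≫ i) z := by
  obtain ⟨m, hm⟩ := (KRImm.isRegularImmersionAt_iff j z).1 (koszulAt_of_regularAt hj)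
  obtain ⟨n, hn⟩ := (KRImm.isRegularImmersionAt_iff i (j z)).1 (koszulAt_of_regularAt hi)
  obtain ⟨U, h1, h2, rs, h3, h4⟩ := (KRImm.isRegularImmersionAt_iff (j ≫ i) z).2 ⟨_, KRImm.atN_comp i j z hn hm⟩
  exact regularAt_of_h1At ⟨U, h1, h2, rs, H26.RegKinds.h1_of_koszul rs h3, h4⟩

/-- Cancellation: the outer immersion is regular if the inner one and the composite are. -/
theorem regularAt_outer [IsLocallyNoetherian X] (z : Z)
    (hj : RegImm.IsRegularImmersionAt .regular j z)
    (hij : RegImm.IsRegularImmersionAt .regular (j ≫ i) z) :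
    RegImm.IsRegularImmersionAt .regular i (j z) := by
  obtain ⟨V, hV, hzV, -, hci, hcj, hcc⟩ := exists_chart_pair (i := i) (j := j) z (O := ⊤) trivial
  obtain ⟨hpV, hsurj⟩ := KRImm.isAffine_preimage i hV hci
  obtain ⟨m, hm⟩ := (KindDesc.Imm.h1At_iff j z).1 (h1At_of_regularAt hj)
  obtain ⟨r, hr⟩ := (KindDesc.Imm.h1At_iff (j ≫ i) z).1 (h1At_of_regularAt hij)
  have hgK := KindDesc.Imm.genAt_of_atN KindDesc.good_h1 hr hV hcc hzV
  have hgB := KindDesc.Imm.genAt_of_atN KindDesc.good_h1 hm hpV hcj hzV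
  haveI : IsNoetherianRing Γ(X, V) := IsLocallyNoetherian.component_noetherian ⟨V, hV⟩
  set φ := (i.app V).hom
  set P := (hV.primeIdealOf ⟨i (j z), hzV⟩).asIdeal
  set Q := (hpV.primeIdealOf ⟨j z, hzV⟩).asIdeal
  set K := RingHom.ker ((j ≫ i).app V).hom
  haveI : Q.IsPrime := (hpV.primeIdealOf ⟨j z, hzV⟩).isPrime
  haveI : P.IsPrime := (hV.primeIdealOf ⟨i (j z), hzV⟩).isPrime
  have hP : Q.comap φ = P := by
    ext a
    rw [← not_iff_not, Ideal.mem_comap, ← KRImm.mem_basicOpen_iff, ← KRImm.mem_basicOpen_iff,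
      ← Scheme.preimage_basicOpen]
    rfl
  have hKP : K ≤ P := fun a ha => by
    by_contra h
    have h1 : z ∈ (j ≫ i) ⁻¹ᵁ X.basicOpen a :=
      (KRImm.mem_basicOpen_iff hV a ⟨i (j z), hzV⟩).2 h
    rw [Scheme.preimage_basicOpen, show (j ≫ i).app V a = 0 from ha, Scheme.basicOpen_zero] at h1
    exact h1
  have hmap : K.map φ = RingHom.ker (j.app (i ⁻¹ᵁ V)).hom := by
    rw [show K = (RingHom.ker (j.app (i ⁻¹ᵁ V)).hom).comap φ from by
      simp only [K, φ]; rw [RingHom.comap_ker]; rfl,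
      Ideal.map_comap_of_surjective _ hsurj]
  let R := Localization.AtPrime P
  let B := Localization.AtPrime Q
  have hM : P.primeCompl.map φ = Q.primeCompl := by
    ext b
    constructor
    · rintro ⟨a, ha, rfl⟩ hb
      exact ha (hP.le hb)
    · intro hb
      obtain ⟨a, rfl⟩ := hsurj b
      exact ⟨a, fun ha => hb (hP.ge ha), rfl⟩
  haveI : IsLocalization (P.primeCompl.map φ) B := by rw [hM]; infer_instance
  let χ : R →+* B := IsLocalization.map (M := P.primeCompl) B φ (Submonoid.le_comap_map _)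
  have hχs : Function.Surjective χ := IsLocalization.map_surjective_of_surjective _ _ _ hsurj
  have hχk : RingHom.ker χ = (RingHom.ker φ).map (algebraMap Γ(X, V) R) :=
    IsLocalization.ker_map (S := R) B φ rfl
  have hχc : χ.comp (algebraMap Γ(X, V) R) = (algebraMap _ B).comp φ :=
    IsLocalization.map_comp (Submonoid.le_comap_map _)
  obtain ⟨g₁, hg₁, hgen₁⟩ := hgK
  obtain ⟨g₂, hg₂, hgen₂⟩ := hgB
  haveI : Module.Flat Γ(X, V) R := IsLocalization.flat _ P.primeCompl
  haveI : Module.Flat Γ(Y, i ⁻¹ᵁ V) B := IsLocalization.flat _ Q.primeCompl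
  obtain ⟨f, hf, hfK⟩ := KindDesc.Loc.gen_of_isUnit KindDesc.good_h1 g₁ _ hgen₁ R
    (IsLocalization.map_units R (⟨g₁, hg₁⟩ : P.primeCompl))
  obtain ⟨g, hg, hgK⟩ := KindDesc.Loc.gen_of_isUnit KindDesc.good_h1 g₂ _ hgen₂ B
    (IsLocalization.map_units B (⟨g₂, hg₂⟩ : Q.primeCompl))
  haveI : IsNoetherianRing R := IsLocalization.isNoetherianRing P.primeCompl _ inferInstance
  have hIK : RingHom.ker φ ≤ K := fun x hx => by
    show j.app (i ⁻¹ᵁ V) (i.app V x) = 0
    rw [show i.app V x = 0 from hx, map_zero]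
  obtain ⟨rs, hrs, hrsI⟩ := exists_regular_gens χ hχs f hf
    (by rw [← hfK, ← Localization.AtPrime.map_eq_maximalIdeal]; exact Ideal.map_mono hKP)
    (by rw [hχk, ← hfK]; exact Ideal.map_mono hIK) g hg
    (by rw [← hfK, ← hgK, Ideal.map_map, hχc, ← Ideal.map_map, hmap])
  obtain ⟨a, ha, fs, hfs⟩ := H26.RegImmLocal.exists_away P R (RingHom.ker φ) rs hrs (hrsI.trans hχk)
  haveI := hV.isLocalization_basicOpen a
  obtain ⟨hwD, hI⟩ := hfs Γ(X, X.basicOpen a)
  have hzD : i (j z) ∈ X.basicOpen a := (KRImm.mem_basicOpen_iff hV a ⟨i (j z), hzV⟩).2 ha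
  have hkerD : RingHom.ker (i.app (X.basicOpen a)).hom =
      Ideal.ofList (fs.map (algebraMap Γ(X, V) Γ(X, X.basicOpen a))) := by
    rw [KRImm.ker_app_basicOpen i hV hci a]
    exact hI
  refine ⟨⟨_, hV.basicOpen a⟩, hzD, KRImm.closed_of_le i (X.basicOpen_le a) hci, _, ⟨hwD, ?_⟩, hkerD⟩
  rw [smul_eq_mul, Ideal.mul_top, ← hkerD]
  intro h
  haveI : Nontrivial Γ(Y, i ⁻¹ᵁ X.basicOpen a) := by
    refine ⟨0, 1, fun h01 => ?_⟩
    have := congrArg (Y.presheaf.germ (i ⁻¹ᵁ X.basicOpen a) (j z) hzD) h01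
    rw [map_zero, map_one] at this
    exact zero_ne_one this
  exact RingHom.ker_ne_top (i.app (X.basicOpen a)).hom h.symm

variable [QuasiCompact i] [QuasiCompact j]
  {φ₁ : (Scheme.Modules.pullback j).obj (Omega.conormal i) ⟶ Omega.conormal (j ≫ i)}

/-- Near a point where the inner immersion is `H₁`-regular the first conormal map has a retraction. -/
theorem exists_retraction_of_h1At (hφ₁ : IsConormalMap (j ≫ i) i (𝟙 X) j φ₁) (z : Z)
    (hj : RegImm.IsRegularImmersionAt .h1 j z) :
    ∃ (W : Z.Opens) (ρ : (Scheme.Modules.restrictFunctor W.ι).obj (Omega.conormal (j ≫ i)) ⟶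
      (Scheme.Modules.restrictFunctor W.ι).obj ((Scheme.Modules.pullback j).obj (Omega.conormal i))),
      z ∈ W ∧ (Scheme.Modules.restrictFunctor W.ι).map φ₁ ≫ ρ = 𝟙 _ := by
  haveI := Affine.isQCoh_conormal i
  haveI := Affine.isQCoh_conormal (j ≫ i)
  haveI : ((Scheme.Modules.pullback j).obj (Omega.conormal i)).IsQuasicoherent :=
    QCoh.Pullback.isQCoh_pullback j _
  obtain ⟨⟨U, hU⟩, hzU, hcl, rs, hrs, hker⟩ := hj
  have hgood : H1Conormal.Good j U := ⟨hU, hcl, rs.length, rs.get, hrs, by rw [hker, Set.range_list_get]⟩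
  obtain ⟨V, hV, hzV, hgV⟩ := H1Conormal.exists_good_chart i hgood hzU
  have hjV := H1Conormal.isChart_of_good hgV
  have hcV := H1Conormal.isChart_comp hV hjV
  obtain ⟨-, -, n, g, hg, hgker⟩ := hgV
  let W := j ⁻¹ᵁ (i ⁻¹ᵁ V)
  let P := (Scheme.Modules.pullback j).obj (Omega.conormal i)
  let C := Omega.conormal (j ≫ i)
  choose A hA using fun l => hV.surj (g l)
  choose kA hkA using fun l => (Affine.exists_idealSect_iff (i := j ≫ i) hcV.affine (A l)).2 (by
    rw [RingHom.mem_ker]
    show j.app (i ⁻¹ᵁ V) (i.app V (A l)) = 0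
    rw [hA l]
    exact RingHom.mem_ker.1 (hgker.ge (Ideal.subset_span ⟨l, rfl⟩)))
  let φW : Γ(P, W) →ₗ[Γ(Z, W)] Γ(C, W) :=
    { toFun := fun x => φ₁.app W x
      map_add' := map_add _
      map_smul' := fun r x => Scheme.Modules.Hom.app_smul φ₁ r x }
  let L : (Fin n → Γ(Z, W)) →ₗ[Γ(Z, W)] Γ(C, W) :=
    Fintype.linearCombination Γ(Z, W) fun l => (conormalSect (j ≫ i) V (kA l) : Γ(C, W))
  let ψ := φW.coprod L
  have hval : ∀ m : Γ(ClSub.idealMod i.ker, V),
      φW (pullSect j (Omega.conormal i) (i ⁻¹ᵁ V) (conormalSect i V m)) =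
      conormalSect (j ≫ i) V (Kaehler.Conormal.liftSect hφ₁.1 V m) := fun m => by
    refine Eq.trans (Kaehler.Conormal.app_eq hφ₁ V m) ?_
    exact congr($((Omega.conormal (j ≫ i)).presheaf.map_id _) _)
  have hL : ∀ c : Fin n → Γ(X, V), L (fun l => (j ≫ i).app V (c l)) =
      conormalSect (j ≫ i) V (∑ l, c l • kA l) := by
    intro c
    rw [map_sum, Fintype.linearCombination_apply]
    exact Finset.sum_congr rfl fun l _ =>
      (Kaehler.Conormal.conormalSect_smul (j ≫ i) V (c l) (kA l)).symm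
  have hLv : ∀ c : Fin n → Γ(X, V), idealSect (j ≫ i).ker V (∑ l, c l • kA l) = ∑ l, c l * A l := by
    intro c
    rw [map_sum]
    exact Finset.sum_congr rfl fun l _ => by rw [Kaehler.Conormal.idealSect_smul, hkA]
  have hlift : ∀ m : Γ(ClSub.idealMod i.ker, V),
      idealSect (j ≫ i).ker V (Kaehler.Conormal.liftSect hφ₁.1 V m) = idealSect i.ker V m :=
    fun m => Kaehler.Conormal.idealSect_liftSect hφ₁.1 V m
  have hcomap : RingHom.ker ((j ≫ i).app V).hom = (Ideal.span (Set.range g)).comap (i.app V).hom := by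
    rw [← hgker, RingHom.comap_ker]
    rfl
  have hsurj : Function.Surjective ψ := by
    intro y
    obtain ⟨k, rfl⟩ := (Affine.conormalSect_spec hcV).1 y
    have hk := (Affine.exists_idealSect_iff (i := j ≫ i) hcV.affine _).1 ⟨k, rfl⟩
    rw [hcomap, Ideal.mem_comap] at hk
    obtain ⟨c, hc⟩ := Ideal.mem_span_range_iff_exists_fun.1 hk
    choose c' hc' using fun l => hV.surj (c l)
    obtain ⟨m, hm⟩ := (Affine.exists_idealSect_iff (i := i) hV.affine
      (idealSect (j ≫ i).ker V k - ∑ l, c' l * A l)).2 (by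
        rw [RingHom.mem_ker, map_sub, ← hc, map_sum, sub_eq_zero]
        exact Finset.sum_congr rfl fun l _ => by rw [map_mul, hc', hA])
    refine ⟨(pullSect j (Omega.conormal i) (i ⁻¹ᵁ V) (conormalSect i V m),
      fun l => (j ≫ i).app V (c' l)), ?_⟩
    show φW (pullSect j (Omega.conormal i) (i ⁻¹ᵁ V) (conormalSect i V m)) +
      L (fun l => (j ≫ i).app V (c' l)) = _
    rw [hval, hL]
    refine Eq.trans (map_add (conormalSect (j ≫ i) V).hom _ _).symm ?_
    refine (Affine.conormalSect_eq_iff hcV _ _).2 ?_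
    rw [map_add, hlift, hLv, hm, sub_add_cancel, sub_self]
    exact Ideal.zero_mem _
  have hinj : Function.Injective ψ := by
    refine (injective_iff_map_eq_zero ψ).2 ?_
    intro p hxc
    obtain ⟨x, c⟩ := p
    change φW x + L c = 0 at hxc
    obtain ⟨m, rfl⟩ := H1Conormal.exists_pullSect_eq hV hjV x
    choose c' hc' using fun l => hcV.surj (c l)
    rw [hval, ← show (fun l => (j ≫ i).app V (c' l)) = c from funext hc', hL] at hxc
    replace hxc := (map_add (conormalSect (j ≫ i) V).hom _ _).trans hxc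
    replace hxc := ((Affine.conormalSect_spec hcV).2 _).1 hxc
    rw [map_add, hlift, hLv] at hxc
    have hm0 : i.app V (idealSect i.ker V m) = 0 := Affine.app_idealSect m
    have hc0 : c = 0 := by
      have h := Ideal.mem_map_of_mem (i.app V).hom hxc
      rw [map_add, map_sum, show (i.app V).hom (idealSect i.ker V m) = 0 from hm0, zero_add,
        Ideal.map_pow, hcomap, Ideal.map_comap_of_surjective _ hV.surj] at h
      simp only [map_mul, hA] at h
      funext l
      rw [← hc' l]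
      refine RingHom.mem_ker.1 (hcomap.ge ?_)
      exact H1Conormal.coeff_mem hg (fun l => i.app V (c' l)) h l
    subst hc0
    have hsum : ∑ l, c' l * A l ∈ (RingHom.ker ((j ≫ i).app V).hom) ^ 2 := by
      rw [pow_two]
      refine Submodule.sum_mem _ fun l _ => Ideal.mul_mem_mul (RingHom.mem_ker.2 (hc' l)) ?_
      exact hkA l ▸ (Affine.exists_idealSect_iff (i := j ≫ i) hcV.affine _).1 ⟨kA l, rfl⟩
    have hm2 := sub_mem hxc hsum
    rw [add_sub_cancel_right] at hm2
    refine Prod.ext ?_ rfl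
    exact H1Conormal.pullSect_eq_zero_of_mem_mul hV.affine m
      (Inject.mem_mul_of_mem_sq (i.app V).hom hV.surj g (fun z hz => H1Conormal.isTriv hg z hz) hcomap
        ((Affine.exists_idealSect_iff hV.affine _).1 ⟨m, rfl⟩) hm2)
  let e := LinearEquiv.ofBijective ψ ⟨hinj, hsurj⟩
  let r : Γ(C, W) →ₗ[Γ(Z, W)] Γ(P, W) := (LinearMap.fst _ _ _).comp e.symm.toLinearMap
  have hr : ∀ x, r (φ₁.app W x) = x := fun x => by
    have h : e (x, 0) = φ₁.app W x := by
      show φW x + L 0 = _
      rw [map_zero, add_zero]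
      rfl
    show (e.symm (φ₁.app W x)).1 = x
    rw [← h, e.symm_apply_apply]
  obtain ⟨ρ, hρ⟩ := QCohChart.Retraction.exists_retraction hjV.affine_preimage φ₁ r hr
  exact ⟨W, ρ, hzV, hρ⟩

end Groth.Agent.H2.SplitPerm
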